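import Cfsg.Agent.Spor.Chk2
import Cfsg.Agent.Spor.G1365.D0

set_option autoImplicit false
set_option maxRecDepth 100000000
set_option Elab.async false
noncomputable section

namespace Cfsg.Agent.Spor.G1365.S

def W1 : List (List Nat) := [[1], [3], [5], [7], [9], [11]]

def W2 : List (List Nat) := [[1], [5], [7], [9], [11], [13], [15]]

def M3 : Nat := nat_lit 0x1000028000000102020000000000000000004000000000000000000000040000000000000000000000000000000000000000000000000000000000000000000000000000000000000000000000000000000000000000000000000000000000000000000000000000000000000000000000000000000000000000000000000000000000000000000000000000300000000000000000180000000000080000000090000001800208008000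

def M9 : Nat := nat_lit 0xccc000031360000f9c4001c80010000000003803002000001900400003d807401800000400000008000000000000006c6f80030000000000480c20003ea00039008001b01008a2010000000000080be3e0081c00000000b0d80001e3800200020e030730e20000000041f0380ce000001ce001ee1080f1073eec000021c19680004817db63e4ffe000431bc00011fdf73ff0021b78001bfe7e007f000be3c0f0000f384000e8000800000

def M15 : Nat := nat_lit 0x1323fffd4ec9fffe0439ffe37ffefffffffffc3fcffdfffffe6ffbffffc27b8bfe7fffffbfffffff7ffffffffffffff93907ffcffffffffffb7f3dfffc15fffc6ff7ffe4feff75dfefffffffffff7f41c1ff7e3ffffffff4f27fffe1c7ffdfffdf1fcf8cf1dffffffffbe0fc7f31fffffe31ffe11ef7f0ef8c113ffffde3e697fffb7e8249c1b001fffbce43ffcee0208c00ffde487fe640181ff80ff741c3f0ff6f0c7bfe717df77f7ffe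

def U : Tab := ⟨[n0, n1, n2, n3, n4, n5, n6, n7], [⟨0, false, 0, 0, []⟩, ⟨0, false, 0, 0, []⟩, ⟨0, true, 0, 0, []⟩, ⟨1, false, 0, 0, []⟩, ⟨1, true, 0, 0, []⟩, ⟨2, false, 0, 0, []⟩, ⟨2, true, 0, 0, []⟩, ⟨3, false, 0, 0, []⟩, ⟨3, true, 0, 0, []⟩, ⟨4, false, 0, 0, []⟩, ⟨4, true, 0, 0, []⟩, ⟨5, false, 0, 0, []⟩, ⟨5, true, 0, 0, []⟩, ⟨6, false, 0, 0, []⟩, ⟨6, true, 0, 0, []⟩, ⟨7, false, 0, 0, []⟩, ⟨7, true, 0, 0, []⟩]⟩

end Cfsg.Agent.Spor.G1365.S
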